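import Groth.Agent.HilbBurch.Basic
import Groth.Agent.HBDef.Lift
import Mathlib

/-!
# Spreading out a Hilbert–Burch presentation from a local ring
-/

set_option autoImplicit false
set_option linter.style.haveILetI false
universe u

namespace Groth.Agent.HBSpread

open Groth.Agent.HilbBurch (Δ sum_Δ_mulVec)

variable {R : Type u} [CommRing R]

theorem map_Δ {S : Type u} [CommRing S] (f : R →+* S) {t : ℕ} (Ψ : Matrix (Fin (t + 1)) (Fin t) R) (i : Fin (t + 1)) :
    Δ (Ψ.map f) i = f (Δ Ψ i) := by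
  simp [Δ, RingHom.map_det, Matrix.submatrix_map]

theorem Δ_smul {t : ℕ} (c : R) (Ψ : Matrix (Fin (t + 1)) (Fin t) R) (i : Fin (t + 1)) :
    Δ (c • Ψ) i = c ^ t * Δ Ψ i := by
  simp only [Δ, Matrix.submatrix_smul, Pi.smul_apply, Matrix.det_smul, Fintype.card_fin]
  ring

/-- The presentation condition, element-wise. -/
def HB {t : ℕ} (Ψ : Matrix (Fin (t + 1)) (Fin t) R) (I : Ideal R) : Prop :=
  Ideal.span (Set.range (Δ Ψ)) = I ∧ (∀ u : Fin t → R, Ψ.mulVec u = 0 → u = 0) ∧
    ∀ w : Fin (t + 1) → R, ∑ i, Δ Ψ i * w i = 0 → ∃ u : Fin t → R, Ψ.mulVec u = w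

theorem HB.result {t : ℕ} {Ψ : Matrix (Fin (t + 1)) (Fin t) R} {I : Ideal R} (h : HB Ψ I) :
    Ideal.span (Set.range (fun i : Fin (t + 1) => (-1 : R) ^ (i : ℕ) * ((Ψ).submatrix i.succAbove id).det)) = I ∧
      Function.Injective (Ψ).mulVecLin ∧
      LinearMap.range (Ψ).mulVecLin =
        LinearMap.ker (Fintype.linearCombination R (fun i : Fin (t + 1) => (-1 : R) ^ (i : ℕ) * ((Ψ).submatrix i.succAbove id).det)) := by
  refine ⟨h.1, (injective_iff_map_eq_zero _).2 h.2.1, le_antisymm ?_ fun w hw => ?_⟩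
  · rintro _ ⟨u, rfl⟩
    rw [LinearMap.mem_ker, Groth.Agent.HBDef.linearCombination_eq, ← sum_Δ_mulVec Ψ u]
    exact Finset.sum_congr rfl fun i _ => mul_comm _ _
  · rw [LinearMap.mem_ker, Groth.Agent.HBDef.linearCombination_eq] at hw
    refine h.2.2 w ?_
    rw [← hw]
    exact Finset.sum_congr rfl fun i _ => mul_comm _ _

theorem HB.of {t : ℕ} {Ψ : Matrix (Fin (t + 1)) (Fin t) R} {I : Ideal R}
    (h : Ideal.span (Set.range (fun i : Fin (t + 1) => (-1 : R) ^ (i : ℕ) * ((Ψ).submatrix i.succAbove id).det)) = I ∧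
      Function.Injective (Ψ).mulVecLin ∧
      LinearMap.range (Ψ).mulVecLin =
        LinearMap.ker (Fintype.linearCombination R (fun i : Fin (t + 1) => (-1 : R) ^ (i : ℕ) * ((Ψ).submatrix i.succAbove id).det))) :
    HB Ψ I := by
  refine ⟨h.1, (injective_iff_map_eq_zero _).1 h.2.1, fun w hw => h.2.2.ge ?_⟩
  rw [LinearMap.mem_ker, Groth.Agent.HBDef.linearCombination_eq, ← hw]
  exact Finset.sum_congr rfl fun i _ => mul_comm _ _

/-- scaling by a unit -/
theorem HB.smul {t : ℕ} {Ψ : Matrix (Fin (t + 1)) (Fin t) R} {I : Ideal R} (h : HB Ψ I) {c : R} (hc : IsUnit c) :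
    HB (c • Ψ) I := by
  refine ⟨?_, fun u hu => h.2.1 u ?_, fun w hw => ?_⟩
  · rw [show Δ (c • Ψ) = fun i => c ^ t * Δ Ψ i from funext (Δ_smul c Ψ),
      show (Set.range fun i => c ^ t * Δ Ψ i) = (c ^ t * ·) '' Set.range (Δ Ψ) from Set.range_comp _ (Δ Ψ)]
    refine le_antisymm (Ideal.span_le.2 ?_) ?_
    · rintro _ ⟨x, hx, rfl⟩
      exact Ideal.mul_mem_left _ _ (h.1 ▸ Ideal.subset_span hx)
    · rw [← h.1, Ideal.span_le]
      intro x hx
      exact (Ideal.unit_mul_mem_iff_mem _ (hc.pow t)).1 (Ideal.subset_span ⟨x, hx, rfl⟩)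
  · rw [Matrix.smul_mulVec] at hu
    exact (IsUnit.smul_eq_zero hc).1 hu
  · have h0 : c ^ t * ∑ i, Δ Ψ i * w i = 0 := by
      rw [Finset.mul_sum, ← hw]
      exact Finset.sum_congr rfl fun i _ => by rw [Δ_smul, mul_assoc]
    obtain ⟨u, hu⟩ := h.2.2 w ((hc.pow t).mul_right_eq_zero.1 h0)
    obtain ⟨v, hv⟩ := hc.exists_left_inv
    exact ⟨v • u, by rw [Matrix.smul_mulVec, Matrix.mulVec_smul, smul_smul, mul_comm c v, hv, one_smul, hu]⟩

/-- uniform denominators for a finitely generated submodule -/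
theorem exists_uniform [IsNoetherianRing R] {M : Type u} [AddCommGroup M] [Module R M] [Module.Finite R M]
    (p : Ideal R) [p.IsPrime] (N P : Submodule R M) (h : ∀ x ∈ N, ∃ s ∉ p, s • x ∈ P) :
    ∃ g ∉ p, ∀ x ∈ N, g • x ∈ P := by
  classical
  obtain ⟨T, hT⟩ := IsNoetherian.noetherian N
  choose! s hs hsP using h
  refine ⟨∏ a ∈ T, s a, fun hm => ?_, fun x hx => ?_⟩
  · obtain ⟨a, ha, hap⟩ := Ideal.IsPrime.prod_mem_iff.1 hm
    exact hs a (hT ▸ Submodule.subset_span ha) hap
  · rw [← hT] at hx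
    induction hx using Submodule.span_induction with
    | mem y hy =>
      rw [← Finset.mul_prod_erase _ _ hy, mul_comm, mul_smul]
      exact P.smul_mem _ (hsP y (hT ▸ Submodule.subset_span hy))
    | zero => rw [smul_zero]; exact P.zero_mem
    | add a b _ _ ha hb => rw [smul_add]; exact P.add_mem ha hb
    | smul c a _ ha => rw [smul_comm]; exact P.smul_mem _ ha

/-- clearing denominators of a vector -/
theorem exists_vec {S : Type u} [CommRing S] [Algebra R S] (M : Submonoid R) [IsLocalization M S] {n : ℕ}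
    (v : Fin n → S) : ∃ b : M, ∃ w : Fin n → R, ∀ i, algebraMap R S (w i) = algebraMap R S b * v i := by
  obtain ⟨b, hb⟩ := IsLocalization.exist_integer_multiples_of_finite M v
  choose w hw using hb
  exact ⟨b, w, fun i => (hw i).trans (Algebra.smul_def _ _)⟩

theorem exists_kill {S : Type u} [CommRing S] [Algebra R S] (M : Submonoid R) [IsLocalization M S] {n : ℕ}
    (w : Fin n → R) (h : ∀ i, algebraMap R S (w i) = 0) : ∃ b : M, (b : R) • w = 0 := by
  classical
  choose b hb using fun i => (IsLocalization.map_eq_zero_iff M S (w i)).1 (h i)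
  refine ⟨∏ i, b i, funext fun i => ?_⟩
  rw [Pi.smul_apply, smul_eq_mul, ← Finset.mul_prod_erase Finset.univ b (Finset.mem_univ i), Submonoid.coe_mul,
    mul_comm (b i : R), mul_assoc, hb, mul_zero, Pi.zero_apply]

theorem map_mulVec {S : Type u} [CommRing S] (f : R →+* S) {m n : ℕ} (Ψ : Matrix (Fin m) (Fin n) R)
    (u : Fin n → R) (i : Fin m) : f (Ψ.mulVec u i) = (Ψ.map f).mulVec (f ∘ u) i :=
  RingHom.map_mulVec f Ψ u i

theorem exists_away [IsNoetherianRing R] (p : Ideal R) [p.IsPrime] (L : Type u) [CommRing L] [Algebra R L]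
    [IsLocalization.AtPrime L p] (I : Ideal R) {t : ℕ} (Ψ₀ : Matrix (Fin (t + 1)) (Fin t) L)
    (h : HB Ψ₀ (I.map (algebraMap R L))) :
    ∃ Ψ : Matrix (Fin (t + 1)) (Fin t) R, ∃ g ∉ p, ∀ (S : Type u) [CommRing S] [Algebra R S]
      [IsLocalization.Away g S], HB (Ψ.map (algebraMap R S)) (I.map (algebraMap R S)) := by
  classical
  obtain ⟨b, hb⟩ := IsLocalization.exist_integer_multiples_of_finite p.primeCompl
    (fun ij : Fin (t + 1) × Fin t => Ψ₀ ij.1 ij.2)
  choose φ hφ using hb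
  let Ψ : Matrix (Fin (t + 1)) (Fin t) R := fun i j => φ (i, j)
  have hmap : Ψ.map (algebraMap R L) = algebraMap R L b • Ψ₀ := by
    ext i j
    exact (hφ (i, j)).trans (Algebra.smul_def _ _)
  have hL : HB (Ψ.map (algebraMap R L)) (I.map (algebraMap R L)) :=
    hmap ▸ h.smul (IsLocalization.map_units L b)
  let J : Ideal R := Ideal.span (Set.range (Δ Ψ))
  have hJmap : ∀ (S : Type u) [CommRing S] [Algebra R S],
      J.map (algebraMap R S) = Ideal.span (Set.range (Δ (Ψ.map (algebraMap R S)))) := fun S _ _ => by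
    rw [Ideal.map_span, ← Set.range_comp]
    congr 1
    exact congrArg Set.range (funext fun i => (map_Δ _ Ψ i).symm)
  have hJI : J.map (algebraMap R L) = I.map (algebraMap R L) := (hJmap L).trans hL.1
  let δ : (Fin (t + 1) → R) →ₗ[R] R := Fintype.linearCombination R (Δ Ψ)
  have hδ : ∀ w, δ w = ∑ i, Δ Ψ i * w i := fun w => by
    rw [Fintype.linearCombination_apply]
    exact Finset.sum_congr rfl fun i _ => mul_comm _ _
  obtain ⟨g₁, hg₁, hA⟩ := exists_uniform p (I : Submodule R R) J fun x hx => by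
    obtain ⟨s, hs, hsx⟩ := (IsLocalization.algebraMap_mem_map_algebraMap_iff p.primeCompl L J x).1
      (hJI.symm ▸ Ideal.mem_map_of_mem _ hx)
    exact ⟨s, hs, hsx⟩
  obtain ⟨g₂, hg₂, hA'⟩ := exists_uniform p (J : Submodule R R) I fun x hx => by
    obtain ⟨s, hs, hsx⟩ := (IsLocalization.algebraMap_mem_map_algebraMap_iff p.primeCompl L I x).1
      (hJI ▸ Ideal.mem_map_of_mem _ hx)
    exact ⟨s, hs, hsx⟩
  obtain ⟨g₃, hg₃, hB⟩ := exists_uniform p (LinearMap.ker Ψ.mulVecLin) ⊥ fun u hu => by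
    rw [LinearMap.mem_ker, Matrix.mulVecLin_apply] at hu
    have h0 : (algebraMap R L) ∘ u = 0 := hL.2.1 _ (funext fun i => by
      rw [← map_mulVec, hu, Pi.zero_apply, map_zero, Pi.zero_apply])
    obtain ⟨s, hs⟩ := exists_kill p.primeCompl u (fun i => congrFun h0 i)
    exact ⟨s, s.2, (Submodule.mem_bot R).2 hs⟩
  obtain ⟨g₄, hg₄, hC⟩ := exists_uniform p (LinearMap.ker δ) (LinearMap.range Ψ.mulVecLin) fun w hw => by
    rw [LinearMap.mem_ker, hδ] at hw
    obtain ⟨v, hv⟩ := hL.2.2 (algebraMap R L ∘ w) (by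
      have := congrArg (algebraMap R L) hw
      rw [map_sum, map_zero] at this
      rw [← this]
      exact Finset.sum_congr rfl fun i _ => by rw [map_mul, map_Δ]; rfl)
    obtain ⟨c, v', hv'⟩ := exists_vec p.primeCompl v
    obtain ⟨c', hc'⟩ := exists_kill (S := L) p.primeCompl ((c : R) • w - Ψ.mulVec v') fun i => by
      rw [Pi.sub_apply, map_sub, map_mulVec,
        show algebraMap R L ∘ v' = algebraMap R L (c : R) • v from funext hv', Matrix.mulVec_smul, hv]
      simp
    refine ⟨c' * c, (c' * c).2, (c' : R) • v', ?_⟩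
    rw [Matrix.mulVecLin_apply, Matrix.mulVec_smul, mul_smul]
    rw [smul_sub, sub_eq_zero] at hc'
    exact hc'.symm
  refine ⟨Ψ, g₁ * g₂ * g₃ * g₄, fun hm => ?_, fun S _ _ _ => ?_⟩
  · rcases ‹p.IsPrime›.mem_or_mem hm with hm | hm
    · rcases ‹p.IsPrime›.mem_or_mem hm with hm | hm
      · exact (‹p.IsPrime›.mem_or_mem hm).elim hg₁ hg₂
      · exact hg₃ hm
    · exact hg₄ hm
  let g := g₁ * g₂ * g₃ * g₄
  have hu : IsUnit (algebraMap R S g) := IsLocalization.Away.algebraMap_isUnit g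
  have hu4 : IsUnit (algebraMap R S g₁) ∧ IsUnit (algebraMap R S g₂) ∧ IsUnit (algebraMap R S g₃) ∧
      IsUnit (algebraMap R S g₄) := by
    simp only [g, map_mul, IsUnit.mul_iff] at hu
    exact ⟨hu.1.1.1, hu.1.1.2, hu.1.2, hu.2⟩
  obtain ⟨hu₁, hu₂, hu₃, hu₄⟩ := hu4
  refine ⟨?_, fun u hu' => ?_, fun w hw => ?_⟩
  · rw [← hJmap S]
    refine le_antisymm (Ideal.map_le_iff_le_comap.2 fun x hx => ?_) (Ideal.map_le_iff_le_comap.2 fun x hx => ?_)
    · have := Ideal.mem_map_of_mem (algebraMap R S) (hA' x hx)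
      rw [smul_eq_mul, map_mul] at this
      exact (Ideal.unit_mul_mem_iff_mem _ hu₂).1 this
    · have := Ideal.mem_map_of_mem (algebraMap R S) (hA x hx)
      rw [smul_eq_mul, map_mul] at this
      exact (Ideal.unit_mul_mem_iff_mem _ hu₁).1 this
  · obtain ⟨c, u', hu''⟩ := exists_vec (Submonoid.powers g) u
    obtain ⟨c', hc'⟩ := exists_kill (S := S) (Submonoid.powers g) (Ψ.mulVec u') fun i => by
      rw [map_mulVec, show algebraMap R S ∘ u' = algebraMap R S (c : R) • u from funext hu'',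
        Matrix.mulVec_smul, hu', smul_zero, Pi.zero_apply]
    have h3 := (Submodule.mem_bot R).1 (hB ((c' : R) • u') (by
      rw [LinearMap.mem_ker, Matrix.mulVecLin_apply, Matrix.mulVec_smul, hc']))
    funext i
    have hi := congrArg (algebraMap R S) (congrFun h3 i)
    simp only [Pi.smul_apply, smul_eq_mul, map_mul, Pi.zero_apply, map_zero, hu''] at hi
    exact (IsLocalization.map_units S c).mul_right_eq_zero.1
      ((IsLocalization.map_units S c').mul_right_eq_zero.1 (hu₃.mul_right_eq_zero.1 hi))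
  · obtain ⟨c, w', hw'⟩ := exists_vec (Submonoid.powers g) w
    have h0 : algebraMap R S (δ w') = 0 := by
      rw [hδ, map_sum, ← mul_zero (algebraMap R S (c : R)), ← hw, Finset.mul_sum]
      exact Finset.sum_congr rfl fun i _ => by rw [map_mul, hw', map_Δ]; ring
    obtain ⟨c', hc'⟩ := (IsLocalization.map_eq_zero_iff (Submonoid.powers g) S _).1 h0
    obtain ⟨v, hv⟩ := hC ((c' : R) • w') (by rw [LinearMap.mem_ker, map_smul, smul_eq_mul, hc'])
    rw [Matrix.mulVecLin_apply] at hv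
    obtain ⟨z, hz⟩ := (hu₄.mul ((IsLocalization.map_units S c').mul (IsLocalization.map_units S c))).exists_left_inv
    refine ⟨z • (algebraMap R S ∘ v), funext fun i => ?_⟩
    rw [Matrix.mulVec_smul, Pi.smul_apply, ← map_mulVec, hv]
    simp only [Pi.smul_apply, smul_eq_mul, map_mul, hw']
    linear_combination (w i) * hz

end Groth.Agent.HBSpread
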